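import Cfsg.Agent.H573.Spor.McLFive
import Cfsg.Agent.Co2Type.CardCo2
import Cfsg.Agent.H978.RadCube
import Cfsg.Agent.H166.K6.WtCyc

/-!
# S4876, `p = 5`: the row of `Co2` (helper629)

`a`, `b`, `c` : the elements of order 5 of `McL` of helper573 (`c` central in `⟨a, b⟩` of order 125), `d ∈ Co2` commutes
with `a` and `d c d⁻¹ = c²`.  The weight of `a` is at least 4 (`H166.K6.wtGe_of_cyc`), that of `c` at least 1; the
5-part of `|C(a)|` is 25, that of `|C(c)|` is 125.
-/

set_option autoImplicit false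
set_option maxRecDepth 100000

open Cfsg

namespace Cfsg.Agent.H629.K6.CoTwo

open Subgroup Cfsg.Agent.H61.K6

universe u v

section general

variable {G : Type*} [Group G] [Finite G] {p : ℕ} [hp : Fact p.Prime]

/-- an element of `p`-power order centralized by a Sylow subgroup -/
theorem exists_central (P : Sylow p G) {x : G} (hx : ∃ k : ℕ, orderOf x = p ^ k)
    (hi : ¬ p ∣ (centralizer ({x} : Set G)).index) :
    ∃ g : G, g * x * g⁻¹ ∈ (P : Subgroup G) ∧ ∀ z ∈ (P : Subgroup G), z * (g * x * g⁻¹) = g * x * g⁻¹ * z := by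
  obtain ⟨R⟩ : Nonempty (Sylow p ↥(centralizer ({x} : Set G))) := inferInstance
  have hcard : Nat.card ((R : Subgroup ↥(centralizer ({x} : Set G))).map (centralizer ({x} : Set G)).subtype) =
      p ^ (Nat.card G).factorization p := by
    rw [card_map_of_injective (subtype_injective _), Sylow.card_eq_multiplicity,
      ← card_mul_index (centralizer ({x} : Set G)),
      Nat.factorization_mul Nat.card_pos.ne' (by rw [index_eq_card]; exact Nat.card_pos.ne'), Finsupp.add_apply,
      Nat.factorization_eq_zero_of_not_dvd hi, add_zero]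
  let R' : Sylow p G := Sylow.ofCard _ hcard
  have hR : ∀ z ∈ (R' : Subgroup G), z * x = x * z := by
    rintro _ ⟨y, _, rfl⟩
    exact mem_centralizer_singleton_iff.1 y.2
  have hxR : x ∈ (R' : Subgroup G) := by
    have hn : zpowers x ≤ normalizer ((R' : Subgroup G) : Set G) := by
      rw [zpowers_le]
      refine centralizer_le_normalizer _ ?_
      rw [mem_centralizer_iff]
      intro z hz
      exact hR z hz
    have hpx : IsPGroup p (zpowers x) := by
      obtain ⟨k, hk⟩ := hx
      exact IsPGroup.of_card (n := k) (by rw [Nat.card_zpowers, hk])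
    have h1 : IsPGroup p (zpowers x ⊔ (R' : Subgroup G) : Subgroup G) := hpx.to_sup_of_normal_right' R'.2 hn
    have h2 := R'.3 h1 le_sup_right
    rw [← h2]
    exact mem_sup_left (mem_zpowers x)
  obtain ⟨g, hg⟩ := MulAction.exists_smul_eq G R' P
  refine ⟨g, ?_, ?_⟩
  · rw [← hg]
    exact ⟨x, hxR, rfl⟩
  · intro z hz
    rw [← hg] at hz
    obtain ⟨w, hw, rfl⟩ := hz
    change g * w * g⁻¹ * (g * x * g⁻¹) = g * x * g⁻¹ * (g * w * g⁻¹)
    calc g * w * g⁻¹ * (g * x * g⁻¹) = g * (w * x) * g⁻¹ := by group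
      _ = g * (x * w) * g⁻¹ := by rw [hR w hw]
      _ = _ := by group

/-- `p`-central elements of order `p` in a group with nonabelian Sylow subgroups of order `p ^ 3` -/
theorem conj_of_central (P : Sylow p G) (hP : Nat.card (P : Subgroup G) = p ^ 3)
    (hna : ¬ IsMulCommutative (P : Subgroup G)) {x y : G} (hx : orderOf x = p) (hy : orderOf y = p)
    (hxi : ¬ p ∣ (centralizer ({x} : Set G)).index) (hyi : ¬ p ∣ (centralizer ({y} : Set G)).index) :
    ∃ g : G, ∃ k : ℕ, g * x * g⁻¹ = y ^ k := by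
  have hpr : p.Prime := hp.out
  have hZ := H573.card_center_cube hP fun hc => hna ⟨⟨hc⟩⟩
  obtain ⟨g, hg, hgc⟩ := exists_central P ⟨1, by rw [hx, pow_one]⟩ hxi
  obtain ⟨t, ht, htc⟩ := exists_central P ⟨1, by rw [hy, pow_one]⟩ hyi
  have h1 : (⟨g * x * g⁻¹, hg⟩ : (P : Subgroup G)) ∈ center (P : Subgroup G) := by
    rw [mem_center_iff]; intro z; exact Subtype.ext (hgc z z.2)
  have h2 : (⟨t * y * t⁻¹, ht⟩ : (P : Subgroup G)) ∈ center (P : Subgroup G) := by
    rw [mem_center_iff]; intro z; exact Subtype.ext (htc z z.2)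
  set a : center (P : Subgroup G) := ⟨_, h1⟩ with ha
  set b : center (P : Subgroup G) := ⟨_, h2⟩ with hb
  have hb1 : b ≠ 1 := by
    intro h3
    have h4 : t * y * t⁻¹ = 1 := congrArg (fun c : center (P : Subgroup G) => ((c : (P : Subgroup G)) : G)) h3
    have h5 : y = 1 := by
      calc y = t⁻¹ * (t * y * t⁻¹) * t := by group
        _ = 1 := by rw [h4]; group
    rw [h5, orderOf_one] at hy
    exact hpr.one_lt.ne hy
  have hpr' : Fact (Nat.Prime (Nat.card (center (P : Subgroup G)))) := ⟨by rw [hZ]; exact hpr⟩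
  have hz : zpowers b = ⊤ := zpowers_eq_top_of_prime_card (p := Nat.card (center (P : Subgroup G))) rfl hb1
  have ham : a ∈ zpowers b := by rw [hz]; exact mem_top _
  obtain ⟨k, hk⟩ := (mem_powers_iff_mem_zpowers.2 ham)
  refine ⟨t⁻¹ * g, k, ?_⟩
  have h3 : (t * y * t⁻¹) ^ k = g * x * g⁻¹ := by
    have := congrArg (fun c : center (P : Subgroup G) => ((c : (P : Subgroup G)) : G)) hk
    simpa [ha, hb] using this
  calc t⁻¹ * g * x * (t⁻¹ * g)⁻¹ = t⁻¹ * (g * x * g⁻¹) * t := by group
    _ = t⁻¹ * (t * y * t⁻¹) ^ k * t := by rw [h3]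
    _ = y ^ k := by rw [conj_pow]; group

/-- the `p`-subgroups of `C(a)` are cyclic modulo `⟨a⟩` -/
theorem cyc_of_not_dvd {a : G} (ha : orderOf a = p) (hd : ¬ p ^ 3 ∣ Nat.card ↥(centralizer ({a} : Set G))) :
    ∀ Q : Subgroup G, IsPGroup p Q → (∀ h ∈ Q, h * a = a * h) → ∃ g ∈ Q, ∀ h ∈ Q, ∃ i k : ℤ, h = g ^ i * a ^ k := by
  intro Q hQ hQa
  have hn : Q ≤ normalizer ((zpowers a : Subgroup G) : Set G) := by
    intro h hh
    refine centralizer_le_normalizer _ ?_
    rw [mem_centralizer_iff]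
    rintro _ ⟨m, rfl⟩
    exact ((show Commute a h from (hQa h hh).symm).zpow_left m).eq
  have hpa : IsPGroup p (zpowers a) := IsPGroup.of_card (n := 1) (by rw [Nat.card_zpowers, ha, pow_one])
  have hR : IsPGroup p (Q ⊔ zpowers a : Subgroup G) := hQ.to_sup_of_normal_right' hpa hn
  have hRC : Q ⊔ zpowers a ≤ centralizer ({a} : Set G) := by
    refine sup_le (fun h hh => mem_centralizer_singleton_iff.2 (hQa h hh)) ?_
    rw [zpowers_le]
    exact mem_centralizer_singleton_iff.2 rfl
  obtain ⟨m, hm⟩ := IsPGroup.iff_card.1 hR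
  have hm2 : m ≤ 2 := by
    by_contra hcon
    exact hd (((pow_dvd_pow p (by omega : 3 ≤ m)).trans (dvd_of_eq hm.symm)).trans (card_dvd_of_le hRC))
  by_cases hsub : Q ≤ zpowers a
  · refine ⟨1, one_mem _, fun h hh => ?_⟩
    obtain ⟨k, hk⟩ := hsub hh
    exact ⟨0, k, by rw [zpow_zero, one_mul]; exact hk.symm⟩
  · obtain ⟨g, hg, hga⟩ := SetLike.not_le_iff_exists.1 hsub
    have hc : Commute g a := hQa g hg
    let T : Subgroup G :=
      { carrier := {h | ∃ i k : ℤ, h = g ^ i * a ^ k}
        one_mem' := ⟨0, 0, by simp⟩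
        mul_mem' := by
          rintro _ _ ⟨i, k, rfl⟩ ⟨i', k', rfl⟩
          refine ⟨i + i', k + k', ?_⟩
          rw [zpow_add, zpow_add]
          have h1 := (hc.zpow_zpow i' k).eq
          calc g ^ i * a ^ k * (g ^ i' * a ^ k') = g ^ i * (a ^ k * g ^ i') * a ^ k' := by group
            _ = g ^ i * (g ^ i' * a ^ k) * a ^ k' := by rw [h1]
            _ = _ := by group
        inv_mem' := by
          rintro _ ⟨i, k, rfl⟩
          refine ⟨-i, -k, ?_⟩
          rw [mul_inv_rev, zpow_neg, zpow_neg]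
          exact ((hc.zpow_zpow i k).inv_inv).eq.symm }
    have hT : T ≤ Q ⊔ zpowers a := by
      rintro _ ⟨i, k, rfl⟩
      exact mul_mem (mem_sup_left (zpow_mem hg i)) (mem_sup_right (zpow_mem (mem_zpowers a) k))
    have haT : zpowers a ≤ T := by
      rw [zpowers_le]
      exact ⟨0, 1, by simp⟩
    have hgT : g ∈ T := ⟨1, 0, by simp⟩
    have hTp : IsPGroup p T := hR.to_le hT
    obtain ⟨l, hl⟩ := IsPGroup.iff_card.1 hTp
    have hl2 : 2 ≤ l := by
      by_contra hcon
      have h1 : zpowers a = T := by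
        apply eq_of_le_of_card_ge haT
        rw [Nat.card_zpowers, ha, hl]
        calc p ^ l ≤ p ^ 1 := Nat.pow_le_pow_right hp.out.pos (by omega)
          _ = p := pow_one p
      rw [← h1] at hgT
      exact hga hgT
    have hTe : T = Q ⊔ zpowers a := by
      apply eq_of_le_of_card_ge hT
      rw [hm, hl]
      exact Nat.pow_le_pow_right hp.out.pos (by omega)
    refine ⟨g, hg, fun h hh => ?_⟩
    have h1 : h ∈ T := by rw [hTe]; exact mem_sup_left hh
    exact h1

end general

section data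

open Cfsg.Agent.SporadicA Cfsg.Agent.SporadicStructure.Co0Matrix Cfsg.Agent.CoOneType.CoEval
open Cfsg.Agent.LThreeCo1.Ev Cfsg.Agent.H573.Spor.Co0 Cfsg.Agent.H573.Spor.McLFive

def nD : ℕ := 0xa39d084a0e839d084a108421083a1494212941d07420e741d2939ce7424e839d084a12849d083a146421084a109421294250942127424e74a4e7424e849d083992849d484a108421083a10839cc83a1283a5063a108421083a1083a5083a0e849d083a108420c83990839d083a0e84a50849908521084a1084a5083a0e83a5084a146421083a1083a5083a12639d084a108429084a109420e741d09420e941ce73a4e9424e742127425074212741ce739ce9425283a508498e83a5483a108421084a10849d063a0e839d083a108421064a10849d084a1283a5084a108420c8499083a5064a1284a5084a108421063a10849d084a0e64a5083a108429083a107420e9425094212941d293a4e7425284a4c84a0e849d064a108421084a1074212741d09420e7425294a4e942529420e742507421294252949ce9424e84a5084a12839d0839908521083a107420e941d07420e9424e749ce74252a4a5083a1284a5083a108421084a14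

theorem okD : okN nD = true := by decide +kernel

def gD : Co0 := mk (ok_of_okN okD)
theorem repD : Rep gD (dec nD) := rep_mk _

def e' : ℕ → Co0
  | 0 => gA
  | 1 => gC
  | _ => gD

def Ms' : ℕ → List (List ℤ)
  | 0 => dec nA
  | 1 => dec nC
  | _ => dec nD

theorem hM' : ∀ i, Rep (e' i) (Ms' i)
  | 0 => repA
  | 1 => repC
  | _ + 2 => repD

theorem ad : gD * gA = gA * gD := by
  have h := eq_of_eqB hM' (w := [2, 0]) (w' := [0, 2]) (by decide +kernel)
  simpa [e', pow_succ, mul_assoc] using h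

theorem dc : gD * gC = gC * (gC * gD) := by
  have h := eq_of_eqB hM' (w := [2, 1]) (w' := [1, 1, 2]) (by decide +kernel)
  simpa [e', pow_succ, mul_assoc] using h

theorem memD : gD.1 ∈ Spor.Co2 := mem_Co2 repD (by decide +kernel)

end data

section row

open Cfsg.Agent.H573.Spor.McLFive Cfsg.Agent.H573.Spor.Co0 Cfsg.Agent.SporadicA
open Cfsg.Agent.LThreeMB (fr fr_conj)
open Cfsg.Spor (Co1)

local notation "Z2" => (Spor.Co2)

def a : Z2 := ⟨gA.1, le_Co2 memA⟩
def b : Z2 := ⟨gB.1, le_Co2 memB⟩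
def c : Z2 := ⟨gC.1, le_Co2 memC⟩
def d : Z2 := ⟨gD.1, memD⟩

theorem a5 : a ^ 5 = 1 := Subtype.ext (show gA.1 ^ 5 = 1 from congrArg Subtype.val a_pow)
theorem b5 : b ^ 5 = 1 := Subtype.ext (show gB.1 ^ 5 = 1 from congrArg Subtype.val b_pow)
theorem c5 : c ^ 5 = 1 := Subtype.ext (show gC.1 ^ 5 = 1 from congrArg Subtype.val c_pow)
theorem a1 : a ≠ 1 := fun h => a_ne (Subtype.ext (show gA.1 = 1 from congrArg Subtype.val h))
theorem c1 : c ≠ 1 := fun h => c_ne (Subtype.ext (show gC.1 = 1 from congrArg Subtype.val h))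
theorem hac : a * c = c * a := Subtype.ext (show gA.1 * gC.1 = gC.1 * gA.1 from congrArg Subtype.val ac)
theorem hbc : b * c = c * b := Subtype.ext (show gB.1 * gC.1 = gC.1 * gB.1 from congrArg Subtype.val bc)
theorem hab : a * b = b * a * c :=
  Subtype.ext (show gA.1 * gB.1 = gB.1 * gA.1 * gC.1 from congrArg Subtype.val ab)
theorem hda : d * a = a * d := Subtype.ext (show gD.1 * gA.1 = gA.1 * gD.1 from congrArg Subtype.val ad)
theorem hdc : d * c = c * (c * d) :=
  Subtype.ext (show gD.1 * gC.1 = gC.1 * (gC.1 * gD.1) from congrArg Subtype.val dc)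

theorem oa : orderOf a = 5 := by
  have : Fact (Nat.Prime 5) := ⟨by norm_num⟩
  exact orderOf_eq_prime a5 a1

theorem oc : orderOf c = 5 := by
  have : Fact (Nat.Prime 5) := ⟨by norm_num⟩
  exact orderOf_eq_prime c5 c1

theorem conj_dc : d * c * d⁻¹ = c ^ 2 := by
  rw [hdc, pow_two]; group

theorem card_eq : Nat.card Z2 = 42305421312000 := Co2Type.CardCo2.card_co2

theorem fin : Finite Z2 := Nat.finite_of_card_ne_zero (by rw [card_eq]; norm_num)

theorem not_conj (g : Z2) (k : ℕ) : g * a * g⁻¹ ≠ c ^ k := by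
  have : Finite Z2 := fin
  intro hg
  have hX : Z2 ≤ Co0 := fun _ h => h.1
  have hk : orderOf (c ^ k) = 5 := by
    rw [← hg, ← oa]
    have := orderOf_injective (MulAut.conj g).toMonoidHom (MulAut.conj g).injective a
    simpa [MulAut.conj_apply] using this
  have hz : zpowers (c ^ k) = zpowers c := by
    apply Subgroup.eq_of_le_of_card_ge
    · rw [zpowers_le]; exact pow_mem (mem_zpowers _) k
    · rw [Nat.card_zpowers, Nat.card_zpowers, hk, oc]
  have hm : c ∈ zpowers (c ^ k) := by rw [hz]; exact mem_zpowers _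
  obtain ⟨m, hm⟩ := mem_zpowers_iff.1 hm
  apply fr_ne
  have e1 : toCo1 Z2 hX a = (QuotientGroup.mk gA : Co1) := rfl
  have e2 : toCo1 Z2 hX c = (QuotientGroup.mk gC : Co1) := rfl
  rw [← e1, ← e2]
  refine fr_eq_of_conj (u := toCo1 Z2 hX g) (k := k) (m := m) ?_ ?_
  · rw [← map_inv, ← map_mul, ← map_mul, hg, map_pow]
  · rw [← map_pow, ← map_zpow, hm]

/-- `a b = c' (b a)` -/
theorem hab' : a * b = c * (b * a) := by
  rw [hab, mul_assoc, hac, ← mul_assoc, hbc, mul_assoc]

theorem dvd_c : 5 ^ 3 ∣ Nat.card ↥(centralizer ({c} : Set Z2)) := by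
  have : Finite Z2 := fin
  have h5 : Fact (Nat.Prime 5) := ⟨by norm_num⟩
  have hp := H978.RadCube.isPGroup_cube hac hbc hab' a5 b5 c5
  obtain ⟨m, hm⟩ := IsPGroup.iff_card.1 hp
  have h3 : 3 ≤ m := by
    by_contra hcon
    have hcomm : ∀ u v : ↥(H978.RadCube.cube hac hbc hab'), u * v = v * u := by
      have hm2 : m ≤ 2 := by omega
      interval_cases m
      · have : Subsingleton ↥(H978.RadCube.cube hac hbc hab') :=
          (Nat.card_eq_one_iff_unique.1 (by rw [hm]; norm_num)).1
        exact fun u v => Subsingleton.elim _ _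
      · have : IsCyclic ↥(H978.RadCube.cube hac hbc hab') := isCyclic_of_prime_card (p := 5) (by rw [hm]; norm_num)
        exact (IsCyclic.isMulCommutative (α := ↥(H978.RadCube.cube hac hbc hab'))).is_comm.comm
      · exact (IsPGroup.isMulCommutative_of_card_eq_prime_sq (p := 5) hm).is_comm.comm
    have h4 : a * b = b * a := congrArg Subtype.val (hcomm ⟨a, ⟨1, 0, 0, by simp⟩⟩ ⟨b, ⟨0, 1, 0, by simp⟩⟩)
    rw [hab] at h4
    exact c1 (mul_eq_left.1 h4)
  have hle : H978.RadCube.cube hac hbc hab' ≤ centralizer ({c} : Set Z2) := by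
    rintro _ ⟨i, j, k, rfl⟩
    rw [mem_centralizer_singleton_iff]
    exact (((show Commute a c from hac).zpow_left i).mul_left ((show Commute b c from hbc).zpow_left j)
      |>.mul_left ((Commute.refl c).zpow_left k)).eq
  refine dvd_trans ?_ (card_dvd_of_le hle)
  rw [hm]
  exact pow_dvd_pow 5 h3

theorem not_dvd_index {x : Z2} (h : 5 ^ 3 ∣ Nat.card ↥(centralizer ({x} : Set Z2))) :
    ¬ 5 ∣ (centralizer ({x} : Set Z2)).index := by
  intro h1
  have h2 : 5 ^ 3 * 5 ∣ Nat.card Z2 := by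
    rw [← card_mul_index (centralizer ({x} : Set Z2))]
    exact mul_dvd_mul h h1
  rw [card_eq] at h2
  norm_num at h2

theorem not_dvd_a : ¬ 5 ^ 3 ∣ Nat.card ↥(centralizer ({a} : Set Z2)) := by
  have : Finite Z2 := fin
  have h5 : Fact (Nat.Prime 5) := ⟨by norm_num⟩
  intro h
  let P : Sylow 5 Z2 := default
  have hP : Nat.card (P : Subgroup Z2) = 5 ^ 3 :=
    H573.card_sylow_of P (by rw [card_eq]; norm_num) (by rw [card_eq]; norm_num)
  have hna : ¬ IsMulCommutative (P : Subgroup Z2) := by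
    refine H573.not_comm_of_class_two (a := a) (b := b) (c := c) (i := 1) (j := 1) (k := 1) (by rw [pow_one]; exact a5)
      (by rw [pow_one]; exact b5) (by rw [pow_one]; exact c5) hac hbc hab ?_ P
    intro h'
    rw [hab] at h'
    exact c1 (mul_eq_left.1 h')
  obtain ⟨g, k, hg⟩ := conj_of_central P hP hna oa oc (not_dvd_index h) (not_dvd_index dvd_c)
  exact not_conj g k hg

theorem c_notMem : c ∉ zpowers a := by
  have : Finite Z2 := fin
  intro h
  have h1 : zpowers c = zpowers a := by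
    refine Subgroup.eq_of_le_of_card_ge (zpowers_le.2 h) ?_
    rw [Nat.card_zpowers, Nat.card_zpowers, oa, oc]
  have h2 : a ∈ zpowers c := by rw [h1]; exact mem_zpowers a
  obtain ⟨k, hk⟩ := mem_powers_iff_mem_zpowers.2 h2
  refine not_conj 1 k ?_
  rw [one_mul, inv_one, mul_one]
  exact hk.symm

theorem order_two : orderOf ((2 : ℕ) : ZMod 5) = 4 := by
  rw [orderOf_eq_iff (by norm_num)]
  decide

theorem weight_a : WtGe.{u, 0} 5 a 4 := by
  have : Finite Z2 := fin
  have h5 : Fact (Nat.Prime 5) := ⟨by norm_num⟩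
  have h := H166.K6.wtGe_of_cyc.{u, 0} (p := 5) (x := a) (y := c) (c := d) ⟨1, by rw [oa, pow_one]⟩ hac.symm hda
    ⟨1, by rw [oc, pow_one]⟩ c_notMem conj_dc (cyc_of_not_dvd oa not_dvd_a)
  rwa [order_two] at h

theorem a_ne_c : a ≠ c := by
  intro h
  exact not_conj 1 1 (by rw [one_mul, inv_one, mul_one, pow_one]; exact h)

/-- **The row `Co2`, `p = 5`.** -/
theorem row_model (hs : IsSimpleGroup Z2) : KRow.{u, 0} 5 Z2 := by
  classical
  have : Finite Z2 := fin
  have h5 : Fact (Nat.Prime 5) := ⟨by norm_num⟩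
  have haut : ∀ σ : Z2 ≃* Z2, σ a ≠ c := by
    intro σ h
    have h1 := card_centralizer_aut σ a
    rw [h] at h1
    exact not_dvd_a (h1 ▸ dvd_c)
  have hcomm : ∃ x y : Z2, x * y ≠ y * x := by
    refine ⟨a, b, fun h => ?_⟩
    rw [hab] at h
    exact c1 (mul_eq_left.1 h)
  refine KRow.of_weights (not_compl_of_simple hcomm (by rw [card_eq]; norm_num)) {a, c} ?_ ?_
    (fun y => if y = a then 4 else 1) ?_ ?_
  · intro y hy
    simp only [Finset.mem_insert, Finset.mem_singleton] at hy
    rcases hy with rfl | rfl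
    · exact ⟨⟨1, by rw [pow_one]; exact oa⟩, a1⟩
    · exact ⟨⟨1, by rw [pow_one]; exact oc⟩, c1⟩
  · intro y hy y' hy' σ hσ
    simp only [Finset.mem_insert, Finset.mem_singleton] at hy hy'
    rcases hy with rfl | rfl <;> rcases hy' with rfl | rfl
    · rfl
    · exact absurd hσ (haut σ)
    · exact absurd (show σ.symm a = c by rw [← hσ, σ.symm_apply_apply]) (haut σ.symm)
    · rfl
  · intro y hy
    simp only [Finset.mem_insert, Finset.mem_singleton] at hy
    rcases hy with rfl | rfl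
    · rw [if_pos rfl]
      exact weight_a
    · rw [if_neg a_ne_c.symm]
      exact wtGe_one c
  · rw [Finset.sum_pair a_ne_c, if_pos rfl, if_neg a_ne_c.symm]

/-- **The row `Co2`, `p = 5`.** -/
theorem row_co2 {S : Type v} [Group S] [IsSimpleGroup S] (h : Spor.IsoCo2 S) : KRow.{u, v} 5 S := by
  obtain ⟨f⟩ := h
  have hs : IsSimpleGroup Z2 := f.symm.isSimpleGroup
  exact (row_model hs).congr f.symm

end row

end Cfsg.Agent.H629.K6.CoTwo
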