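import Cfsg.Agent.CpAutRuFive.Main
import Cfsg.Agent.H978.RadCube
import Cfsg.Agent.H121.K6.Tools
import Cfsg.Agent.H80.K6.Crit

/-!
# S4876, `p = 5`: the row of the Rudvalis group (helper629)

* `sylow_const` : `C` of order `125 m` with one Sylow subgroup `Q` of order `125`, `C(Q) ≤ Q`;
* `x` (class 5B, `|C(x)| ≤ 300`) has weight 2: `z ∈ C(x)` is inverted by an involution of `C(x)`;
* `z` (class 5A, `|C(z)| ≤ 1000`, an element of order 4 in `C(z)`) has weight at least 3.
-/

set_option autoImplicit false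
set_option maxRecDepth 100000

open Cfsg

namespace Cfsg.Agent.H629.K6.Ru

open Subgroup Cfsg.Agent.H61.K6 Cfsg.Agent.H80.K6
open Cfsg.Agent.SporadicB Cfsg.Agent.RuD.Letters Cfsg.Agent.SporRec.TCUpperCert
open Cfsg.Agent.KFacts.Ru Cfsg.Agent.KFacts.Ru.CentEng Cfsg.Agent.CpAutRuFive Cfsg.Agent.CpAutRuFive.Cert Cfsg.Agent.H978.RadCube

universe u v

def wz : List ℕ := [5, 0, 4]
def wb : List ℕ := [5, 7, 5, 0, 7, 8, 1, 3, 5, 7, 0, 5, 7, 4, 1, 3, 0]

theorem c1 : chkEq (wz ++ (wz ++ (wz ++ (wz ++ wz)))) [] = true := by decide +kernel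
theorem c2 : chkEq (wb ++ wB) (wz ++ (wB ++ wb)) = true := by decide +kernel
theorem c3 : chkEq (wb ++ wz) (wz ++ wb) = true := by decide +kernel
theorem c4 : chkEq (wB ++ wz) (wz ++ wB) = true := by decide +kernel
theorem c5 : chkEq (wb ++ (wb ++ (wb ++ (wb ++ wb)))) [] = true := by decide +kernel
theorem c6 : Nat.beq (evalK wz 0) 0 = false := by decide +kernel
theorem c7 : chkEq ([1] ++ wz) (wz ++ [1]) = true := by decide +kernel
theorem c8 : chkEq ([1] ++ ([1] ++ ([1] ++ [1]))) [] = true := by decide +kernel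
theorem c9 : Nat.beq (evalK [1, 1] 1) 1 = false := by decide +kernel
theorem c10 : chkEq ([0, 5, 0] ++ wB) (wB ++ [0, 5, 0]) = true := by decide +kernel
theorem c11 : chkEq ([0, 5, 0] ++ wz ++ ([0, 5, 0] ++ wz)) [] = true := by decide +kernel
theorem c12 : chkEq ([0, 5, 0] ++ [0, 5, 0]) [] = true := by decide +kernel

local notation "xE" => (wprod ml wB : RuOrder.H)
local notation "zE" => (wprod ml wz : RuOrder.H)
local notation "bE" => (wprod ml wb : RuOrder.H)
local notation "sE" => (wprod ml [1] : RuOrder.H)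
local notation "nE" => (wprod ml [0, 5, 0] : RuOrder.H)

theorem five {w : List ℕ} (h : chkEq (w ++ (w ++ (w ++ (w ++ w)))) [] = true) : (wprod ml w : RuOrder.H) ^ 5 = 1 := by
  have h := eq_of_chkEq h
  simp only [wprod_append, wprod_nil] at h
  rw [← h]
  simp only [pow_succ, pow_zero, one_mul, mul_assoc]

theorem z_ne : zE ≠ 1 := by
  intro h
  have h1 := evalK_eq wz ⟨0, by norm_num⟩
  rw [h] at h1
  have h2 : evalK wz 0 = 0 := h1.symm
  have h3 := c6
  rw [h2] at h3
  revert h3
  decide

theorem z_five : zE ^ 5 = 1 := five c1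
theorem b_five : bE ^ 5 = 1 := five c5
theorem x_five : xE ^ 5 = 1 := by rw [← orderB, pow_orderOf_eq_one]

theorem order_z : orderOf zE = 5 := by
  have : Fact (Nat.Prime 5) := ⟨by norm_num⟩
  exact orderOf_eq_prime z_five z_ne

theorem comm_b : bE * xE = zE * (xE * bE) := by
  have h := eq_of_chkEq c2
  simpa only [wprod_append] using h

theorem comm_bz : bE * zE = zE * bE := by
  have h := eq_of_chkEq c3
  simpa only [wprod_append] using h

theorem comm_xz : xE * zE = zE * xE := by
  have h := eq_of_chkEq c4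
  simpa only [wprod_append] using h

theorem comm_sz : sE * zE = zE * sE := by
  have h := eq_of_chkEq c7
  simpa only [wprod_append] using h

theorem comm_nx : nE * xE = xE * nE := by
  have h := eq_of_chkEq c10
  simpa only [wprod_append] using h

theorem inv_z : nE * zE * nE⁻¹ = zE⁻¹ := by
  have h1 : nE * nE = 1 := by
    have h := eq_of_chkEq c12
    simpa only [wprod_append, wprod_nil] using h
  have h2 : nE * zE * (nE * zE) = 1 := by
    have h := eq_of_chkEq c11
    simpa only [wprod_append, wprod_nil] using h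
  have h3 : nE⁻¹ = nE := inv_eq_of_mul_eq_one_left h1
  rw [h3]
  exact eq_inv_of_mul_eq_one_left (by rw [mul_assoc]; exact h2)

theorem s_sq : sE * sE = wprod ml [1, 1] := by rw [← wprod_append]; rfl

theorem s_sq_ne : sE * sE ≠ 1 := by
  rw [s_sq]
  intro h
  have h1 := evalK_eq [1, 1] ⟨1, by norm_num⟩
  rw [h] at h1
  have h2 : evalK [1, 1] 1 = 1 := h1.symm
  have h3 := c9
  rw [h2] at h3
  revert h3
  decide

theorem s_four : sE ^ 4 = 1 := by
  have h := eq_of_chkEq c8
  simp only [wprod_append, wprod_nil] at h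
  rw [← h]
  simp only [pow_succ, pow_zero, one_mul, mul_assoc]

theorem order_s : orderOf sE = 4 := by
  have h1 : orderOf sE ∣ 2 ^ 2 := orderOf_dvd_of_pow_eq_one s_four
  obtain ⟨k, hk, he⟩ := (Nat.dvd_prime_pow Nat.prime_two).1 h1
  have h2 : ¬ orderOf sE ∣ 2 := by
    intro h
    apply s_sq_ne
    rw [← pow_two]
    exact orderOf_dvd_iff_pow_eq_one.1 h
  interval_cases k
  · exact absurd (by rw [he]; norm_num) h2
  · exact absurd (by rw [he]; norm_num) h2
  · rw [he]; norm_num

theorem order_ss : orderOf (sE * sE) = 2 := by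
  have : Fact (Nat.Prime 2) := ⟨Nat.prime_two⟩
  refine orderOf_eq_prime ?_ s_sq_ne
  rw [← pow_two, ← pow_mul]
  exact s_four

/-- the group of order 125 -/
def Q : Subgroup RuOrder.H := cube comm_bz comm_xz comm_b

theorem Q_p : IsPGroup 5 Q := by
  have : Fact (Nat.Prime 5) := ⟨by norm_num⟩
  exact isPGroup_cube comm_bz comm_xz comm_b b_five x_five z_five

theorem b_mem : bE ∈ Q := ⟨1, 0, 0, by simp⟩
theorem x_mem : xE ∈ Q := ⟨0, 1, 0, by simp⟩

theorem Q_le : Q ≤ centralizer ({zE} : Set RuOrder.H) := by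
  rintro _ ⟨i, j, k, rfl⟩
  rw [mem_centralizer_singleton_iff]
  exact (((show Commute bE zE from comm_bz).zpow_left i).mul_left ((show Commute xE zE from comm_xz).zpow_left j)
    |>.mul_left ((Commute.refl zE).zpow_left k)).eq

theorem card_Q_dvd : 125 ∣ Nat.card Q := by
  have := finite_H
  have h5 : Fact (Nat.Prime 5) := ⟨by norm_num⟩
  obtain ⟨m, hm⟩ := IsPGroup.iff_card.1 Q_p
  have h3 : 3 ≤ m := by
    by_contra hcon
    have hcomm : ∀ u v : Q, u * v = v * u := by
      have hm2 : m ≤ 2 := by omega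
      interval_cases m
      · have : Subsingleton Q := (Nat.card_eq_one_iff_unique.1 (by rw [hm]; norm_num)).1
        exact fun a c => Subsingleton.elim _ _
      · have : IsCyclic Q := isCyclic_of_prime_card (p := 5) (by rw [hm]; norm_num)
        exact (IsCyclic.isMulCommutative (α := Q)).is_comm.comm
      · exact (IsPGroup.isMulCommutative_of_card_eq_prime_sq (p := 5) hm).is_comm.comm
    have h4 : bE * xE = xE * bE := congrArg Subtype.val (hcomm ⟨bE, b_mem⟩ ⟨xE, x_mem⟩)
    rw [comm_b] at h4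
    exact z_ne (mul_eq_right.1 h4)
  rw [hm]
  exact pow_dvd_pow 5 h3

/-- the order of `C(zE)` -/
theorem card_Cz : (Nat.card ↥(centralizer ({zE} : Set RuOrder.H)) = 500 ∨
    Nat.card ↥(centralizer ({zE} : Set RuOrder.H)) = 1000) ∧
    ∀ t : RuOrder.H, orderOf t = 2 → zE * t = t * zE →
      Nat.card ↥(centralizer ({zE} : Set RuOrder.H) ⊓ centralizer ({t} : Set RuOrder.H)) ≤ 120 := by
  have := finite_H
  have h1 : 125 ∣ Nat.card ↥(centralizer ({zE} : Set RuOrder.H)) := card_Q_dvd.trans (card_dvd_of_le Q_le)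
  have h2 : 4 ∣ Nat.card ↥(centralizer ({zE} : Set RuOrder.H)) := by
    have h3 := orderOf_dvd_natCard (⟨sE, mem_centralizer_singleton_iff.2 comm_sz⟩ :
      ↥(centralizer ({zE} : Set RuOrder.H)))
    rwa [Subgroup.orderOf_mk, order_s] at h3
  have h3 : 500 ∣ Nat.card ↥(centralizer ({zE} : Set RuOrder.H)) := by
    have := Nat.Coprime.mul_dvd_of_dvd_of_dvd (by norm_num : Nat.Coprime 125 4) h1 h2
    simpa using this
  have h4 : 500 ≤ Nat.card ↥(centralizer ({zE} : Set RuOrder.H)) := Nat.le_of_dvd Nat.card_pos h3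
  have key : ∀ t : RuOrder.H, orderOf t = 2 → zE * t = t * zE →
      Nat.card ↥(centralizer ({zE} : Set RuOrder.H)) ≤ 1000 ∧
      Nat.card ↥(centralizer ({zE} : Set RuOrder.H) ⊓ centralizer ({t} : Set RuOrder.H)) ≤ 120 := by
    intro t ht htz
    rcases cases_invol order_z ht htz with h | h
    · omega
    · exact h
  refine ⟨?_, fun t ht htz => (key t ht htz).2⟩
  have h5 := (key _ order_ss (by rw [← mul_assoc, ← comm_sz, mul_assoc, ← comm_sz, mul_assoc])).1
  obtain ⟨k, hk⟩ := h3
  omega

theorem weight_x : wt 5 xE = 2 := by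
  have := finite_H
  exact H121.K6.wt_eq_two_of_inv (by norm_num) (by norm_num) (k := 1) comm_xz.symm comm_nx
    (by rw [pow_one]; exact z_five) z_ne inv_z

theorem weight_z : WtGe.{u, 0} 5 zE 3 := by
  have := finite_H
  have h5 : Fact (Nat.Prime 5) := ⟨by norm_num⟩
  obtain ⟨hcard, hinv⟩ := card_Cz
  set C := centralizer ({zE} : Set RuOrder.H) with hC
  let Q0 : Subgroup C := Q.subgroupOf C
  have hQ0 : IsPGroup 5 Q0 := Q_p.comap_of_injective C.subtype C.subtype_injective
  have hQ0c : Nat.card Q0 = Nat.card Q := Nat.card_congr (subgroupOfEquivOfLe Q_le).toEquiv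
  have h125 : Nat.card Q0 = 125 := by
    obtain ⟨m, hm⟩ := IsPGroup.iff_card.1 hQ0
    have h1 : 125 ∣ Nat.card Q0 := by rw [hQ0c]; exact card_Q_dvd
    have h2 : Nat.card Q0 ∣ 1000 := by
      refine (card_subgroup_dvd_card Q0).trans ?_
      rcases hcard with h | h <;> rw [h] <;> norm_num
    have h3 : m ≤ 3 := by
      rw [hm] at h2
      by_contra hcon
      have h4 : 5 ^ 4 ∣ 5 ^ m := pow_dvd_pow 5 (by omega)
      exact absurd (h4.trans h2) (by norm_num)
    have h4 : 3 ≤ m := by
      rw [hm] at h1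
      exact (Nat.pow_dvd_pow_iff_le_right (by norm_num : 1 < 5)).1 (show 5 ^ 3 ∣ 5 ^ m from h1)
    rw [hm, le_antisymm h3 h4]
    norm_num
  -- it is the only Sylow subgroup
  have hfac : Nat.card Q0 = 5 ^ (Nat.card C).factorization 5 := by
    have h500 : (500 : ℕ).factorization 5 = 3 := by
      rw [show (500 : ℕ) = 5 ^ 3 * 4 by norm_num, Nat.factorization_mul (by norm_num) (by norm_num),
        Finsupp.add_apply, Nat.factorization_pow, Finsupp.smul_apply, Nat.Prime.factorization_self (by norm_num),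
        Nat.factorization_eq_zero_of_not_dvd (by norm_num)]
      rfl
    have h1000 : (1000 : ℕ).factorization 5 = 3 := by
      rw [show (1000 : ℕ) = 5 ^ 3 * 8 by norm_num, Nat.factorization_mul (by norm_num) (by norm_num),
        Finsupp.add_apply, Nat.factorization_pow, Finsupp.smul_apply, Nat.Prime.factorization_self (by norm_num),
        Nat.factorization_eq_zero_of_not_dvd (by norm_num)]
      rfl
    rcases hcard with h | h
    · rw [h, h500, h125]; norm_num
    · rw [h, h1000, h125]; norm_num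
  let S : Sylow 5 C := Sylow.ofCard Q0 hfac
  have hSQ : (S : Subgroup C) = Q0 := rfl
  have huniq : Nat.card (Sylow 5 C) = 1 := by
    have h1 := card_sylow_modEq_one 5 C
    have h2 : Nat.card (Sylow 5 C) ∣ 8 := by
      have h3 := S.card_dvd_index
      have h4 := (S : Subgroup C).card_mul_index
      rw [hSQ, h125] at h4
      rw [hSQ] at h3
      refine h3.trans ?_
      rcases hcard with h | h
      · rw [h] at h4
        have : Q0.index = 4 := by omega
        rw [this]; norm_num
      · rw [h] at h4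
        have : Q0.index = 8 := by omega
        rw [this]
    have h3 : Nat.card (Sylow 5 C) ≤ 8 := Nat.le_of_dvd (by norm_num) h2
    unfold Nat.ModEq at h1
    interval_cases h : Nat.card (Sylow 5 C) <;> omega
  have hsub : Subsingleton (Sylow 5 C) := (Nat.card_eq_one_iff_unique.1 huniq).1
  have hle : ∀ D : Subgroup C, IsPGroup 5 D → D ≤ Q0 := by
    intro D hD
    obtain ⟨R, hR⟩ := hD.exists_le_sylow
    rw [Subsingleton.elim R S] at hR
    exact hR
  have hnorm : Q0.Normal := by
    refine ⟨fun y hy g => ?_⟩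
    have h1 : (g • S : Sylow 5 C) = S := Subsingleton.elim _ _
    have h2 : g * y * g⁻¹ ∈ ((g • S : Sylow 5 C) : Subgroup C) := ⟨y, hy, rfl⟩
    rw [h1] at h2
    exact h2
  have hcent : centralizer (Q0 : Set C) ≤ Q0 := by
    refine hle _ ?_
    -- no involution
    have hodd : ¬ 2 ∣ Nat.card ↥(centralizer (Q0 : Set C)) := by
      intro hd
      have : Fact (Nat.Prime 2) := ⟨Nat.prime_two⟩
      obtain ⟨t, ht⟩ := exists_prime_orderOf_dvd_card' 2 hd
      have ht2 : orderOf ((t : C) : RuOrder.H) = 2 := by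
        rw [Subgroup.orderOf_coe, Subgroup.orderOf_coe, ht]
      have h1 := hinv _ ht2 (mem_centralizer_singleton_iff.1 (t : C).2).symm
      have h2 : Q ≤ C ⊓ centralizer ({((t : C) : RuOrder.H)} : Set RuOrder.H) := by
        intro q hq
        refine ⟨Q_le hq, mem_centralizer_singleton_iff.2 ?_⟩
        have h3 := mem_centralizer_iff.1 t.2 ⟨q, Q_le hq⟩ (mem_subgroupOf.2 hq)
        exact congrArg Subtype.val h3
      have h3 := Nat.le_of_dvd Nat.card_pos (card_Q_dvd.trans (card_dvd_of_le h2))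
      omega
    have hdvd : Nat.card ↥(centralizer (Q0 : Set C)) ∣ 5 ^ 3 := by
      have h1 : Nat.card ↥(centralizer (Q0 : Set C)) ∣ 8 * 5 ^ 3 := by
        refine (card_subgroup_dvd_card _).trans ?_
        rcases hcard with h | h <;> rw [h] <;> norm_num
      refine Nat.Coprime.dvd_of_dvd_mul_left ?_ h1
      have h2 : Nat.Coprime (Nat.card ↥(centralizer (Q0 : Set C))) 2 :=
        ((Nat.Prime.coprime_iff_not_dvd Nat.prime_two).2 hodd).symm
      exact h2.pow_right 3
    obtain ⟨k, -, hk⟩ := (Nat.dvd_prime_pow h5.out).1 hdvd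
    exact IsPGroup.of_card hk
  have hO : ∀ m ∈ ({1, 2, 4} : Finset ℕ), ¬ 5 ∣ m ∧ ∃ y : RuOrder.H, y * zE = zE * y ∧ orderOf y = m := by
    intro m hm
    simp only [Finset.mem_insert, Finset.mem_singleton] at hm
    rcases hm with rfl | rfl | rfl
    · exact ⟨by norm_num, 1, by rw [one_mul, mul_one], orderOf_one⟩
    · exact ⟨by norm_num, sE * sE, by rw [mul_assoc, comm_sz, ← mul_assoc, comm_sz, mul_assoc], order_ss⟩
    · exact ⟨by norm_num, sE, comm_sz, order_s⟩
  exact (epsGe_constrained (p := 5) (x := zE) Q0 hQ0 hcent {1, 2, 4} hO).wtGe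

/-- the combination of the two weights, for variables (the kernel never unfolds the words here) -/
theorem row_gen {X : Type} [Group X] [Finite X] [IsSimpleGroup X] {x z b : X} (hc : b * x = z * (x * b))
    (hz : z ≠ 1) (ox : orderOf x = 5) (oz : orderOf z = 5)
    (hx3 : Nat.card ↥(centralizer ({x} : Set X)) ≤ 300)
    (hz5 : Nat.card ↥(centralizer ({z} : Set X)) = 500 ∨ Nat.card ↥(centralizer ({z} : Set X)) = 1000)
    (wx : wt 5 x = 2) (wz : WtGe.{u, 0} 5 z 3) : KRow.{u, 0} 5 X := by
  classical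
  have h5 : Fact (Nat.Prime 5) := ⟨by norm_num⟩
  have hxz : x ≠ z := by
    intro h
    rw [h] at hx3
    omega
  have hcomm : ∃ a c : X, a * c ≠ c * a := by
    refine ⟨b, x, ?_⟩
    rw [hc]
    intro h
    exact hz (mul_eq_right.1 h)
  have hd : 5 ∣ Nat.card X := by
    rw [← oz]
    exact orderOf_dvd_natCard _
  have haut : ∀ σ : X ≃* X, σ x ≠ z := by
    intro σ h
    have h1 := card_centralizer_aut σ x
    rw [h] at h1
    omega
  refine KRow.of_weights (not_compl_of_simple hcomm hd) {x, z} ?_ ?_ (fun y => if y = x then 2 else 3) ?_ ?_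
  · intro y hy
    simp only [Finset.mem_insert, Finset.mem_singleton] at hy
    rcases hy with rfl | rfl
    · exact ⟨⟨1, by rw [pow_one]; exact ox⟩, fun h => by
        rw [h, orderOf_one] at ox
        omega⟩
    · exact ⟨⟨1, by rw [pow_one]; exact oz⟩, hz⟩
  · intro y hy y' hy' σ hσ
    simp only [Finset.mem_insert, Finset.mem_singleton] at hy hy'
    rcases hy with rfl | rfl <;> rcases hy' with rfl | rfl
    · rfl
    · exact absurd hσ (haut σ)
    · exact absurd (by rw [← hσ, σ.symm_apply_apply]) (haut σ.symm)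
    · rfl
  · intro y hy
    simp only [Finset.mem_insert, Finset.mem_singleton] at hy
    rcases hy with rfl | rfl
    · rw [if_pos rfl]
      have h1 := wtGe_wt.{u, 0} (p := 5) (x := y)
      rwa [wx] at h1
    · rw [if_neg hxz.symm]
      exact wz
  · rw [Finset.sum_pair hxz, if_pos rfl, if_neg hxz.symm]

/-- **The row `Ru`, `p = 5`.** -/
theorem row_H : KRow.{u, 0} 5 RuOrder.H :=
  have := finite_H
  have : IsSimpleGroup RuOrder.H := RuSimple.isSimpleGroup_H
  row_gen comm_b z_ne orderB order_z cardB card_Cz.1 weight_x weight_z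

/-- **The row `Ru`, `p = 5`.** -/
theorem row_ru {S : Type v} [Group S] (h : Spor.IsoRu S) : KRow.{u, v} 5 S := by
  obtain ⟨e⟩ := h
  exact row_H.congr (e.trans RuLat.Main.equiv).symm

end Cfsg.Agent.H629.K6.Ru
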